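import Cfsg.Agent.Lib.Helper89.SafePres

set_option autoImplicit false
set_option maxRecDepth 1000000
set_option maxHeartbeats 0
set_option Elab.async false

namespace Cfsg.Agent.Lib.Helper92.Tits.A2

open Cfsg.Agent.Lib.Helper89.CosetCert Cfsg.Agent.Lib.Helper89.SafePres

def factB_0 : ℕ := 0x3000100000200010001010001000100000100010300000001020000000001000000000000000001010001000002000100000000000001020000

def factB : ℕ := [factB_0].foldr (fun p acc => Nat.add p (Nat.shiftLeft acc 65536)) 0

def finB_0 : ℕ := 0x100010001000100000000

def finB : ℕ := [finB_0].foldr (fun p acc => Nat.add p (Nat.shiftLeft acc 65536)) 0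

def pw : List (ℕ × ℕ) := [(2, 0), (2, 1)]

def srels0 : List SRel := [
  ⟨[0], 1, 1, 1, false⟩]

def srels : List SRel := [srels0].flatten

def rels : List Word := [
  [0, 0],
  [2, 2],
  [0, 2, 1, 3]]

def steps0 : List ℕ := [
  90072061804806150,
  33056583394693260247047,
  144115394772205568,
  180144123071692801,
  216172851371180034,
  252201854548574211,
  288230789006491648,
  324259654744932353,
  360288314324942850,
  396316767746523139]

def steps : List ℕ := [steps0].flatten

def roots : List ℕ := [0, 1]

def cert : Cert := ⟨2, 1, 2, factBig factB, rels, steps, 2, roots, numBig finB⟩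

end Cfsg.Agent.Lib.Helper92.Tits.A2
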