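import Cfsg.Agent.Lib.Helper89.SafePres

set_option autoImplicit false
set_option maxRecDepth 1000000
set_option maxHeartbeats 0
set_option Elab.async false

namespace Cfsg.Agent.Lib.Helper92.Tits.A3

open Cfsg.Agent.Lib.Helper89.CosetCert Cfsg.Agent.Lib.Helper89.SafePres

def factB_0 : ℕ := 0x5000000000400000000030000000002000000000100000000000000000004000000000200000000000000

def factB : ℕ := [factB_0].foldr (fun p acc => Nat.add p (Nat.shiftLeft acc 65536)) 0

def finB_0 : ℕ := 0x0

def finB : ℕ := [finB_0].foldr (fun p acc => Nat.add p (Nat.shiftLeft acc 65536)) 0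

def pw : List (ℕ × ℕ) := [(2, 0), (2, 1), (2, 2)]

def srels : List SRel := [].flatten

def arels : List Word := [
  [0, 2, 4]]

def rels : List Word := [
  [0, 0],
  [2, 2],
  [4, 4],
  [0, 2, 4]]

def steps0 : List ℕ := [
  23611886457613281394698,
  108086460314288128,
  144115188613775361,
  180144191791169538,
  216172920090656771,
  252201923268050948,
  288230651567538181]

def steps : List ℕ := [steps0].flatten

def roots : List ℕ := [0]

def cert : Cert := ⟨3, 2, 1, factBig factB, rels, steps, 1, roots, numBig finB⟩

end Cfsg.Agent.Lib.Helper92.Tits.A3
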