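import Cfsg.Agent.Lib.Helper92.Tits.A1Data
import Cfsg.Agent.Lib.Helper92.Tits.A2Data
import Cfsg.Agent.Lib.Helper92.Tits.A3Data
import Cfsg.Agent.Lib.Helper92.Tits.A4Data
import Cfsg.Agent.Lib.Helper92.Tits.A5Data
import Cfsg.Agent.Lib.Helper92.Tits.A6Data

/-! # The Tits group: the relators of the presentation on six `2A`-involutions -/

set_option autoImplicit false

namespace Cfsg.Agent.Lib.Helper92.Tits

open Cfsg.Agent.Lib.Helper89.CosetCert Cfsg.Agent.Lib.Helper89.SafePres

/-- the commuting relators of the line `t0 t1 t2 = 1` -/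
def srelsX : List SRel := [⟨[0], 1, 1, 1, false⟩, ⟨[0], 2, 2, 1, false⟩, ⟨[2], 2, 2, 1, false⟩]

/-- all conjugation relators of the involution presentation -/
def srelsA : List SRel := srelsX ++ (A2.srels ++ (A4.srels ++ (A5.srels ++ A6.srels)))

/-- the odd relator `t0 t1 t2` -/
def xrelA : Word := [0, 2, 4]

end Cfsg.Agent.Lib.Helper92.Tits
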