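import Cfsg.Agent.Lib.Helper92.Tits.A1Cert
import Cfsg.Agent.Lib.Helper92.Tits.A2Cert
import Cfsg.Agent.Lib.Helper92.Tits.A3Cert
import Cfsg.Agent.Lib.Helper92.Tits.A4Cert
import Cfsg.Agent.Lib.Helper92.Tits.A5Cert
import Cfsg.Agent.Lib.Helper92.Tits.A6Cert
import Cfsg.Agent.Lib.Helper92.Tits.ADefs

/-! # The Tits group: the presentation on six `2A`-involutions bounds the order by `17971200` -/

set_option autoImplicit false
set_option maxRecDepth 1000000
set_option maxHeartbeats 0

namespace Cfsg.Agent.Lib.Helper92.Tits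

open Cfsg.Agent.Lib.Helper89.CosetCert Cfsg.Agent.Lib.Helper89.SafePres

universe u

theorem tits_pwA1 : ∀ q ∈ A1.pw, q.1 = 2 := by decide
theorem tits_pwA2 : ∀ q ∈ A2.pw, q.1 = 2 := by decide
theorem tits_pwA3 : ∀ q ∈ A3.pw, q.1 = 2 := by decide
theorem tits_pwA4 : ∀ q ∈ A4.pw, q.1 = 2 := by decide
theorem tits_pwA5 : ∀ q ∈ A5.pw, q.1 = 2 := by decide
theorem tits_pwA6 : ∀ q ∈ A6.pw, q.1 = 2 := by decide

theorem tits_arels3 : A3.arels = [xrelA] := rfl
theorem tits_arels4 : A4.arels = [xrelA] := rfl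
theorem tits_arels5 : A5.arels = [xrelA] := rfl
theorem tits_arels6 : A6.arels = [xrelA] := rfl

theorem tits_closure_empty {L : Type*} [Group L] (t : ℕ → L) :
    Nat.card (Subgroup.closure {y | ∃ i < 0, y = t i}) ≤ 1 := by
  have : {y | ∃ i < 0, y = t i} = (∅ : Set L) := by
    ext y
    simp
  rw [this, Subgroup.closure_empty, Subgroup.card_bot]

/-- three commuting involutions whose product has odd order have product one -/
theorem tits_line {L : Type*} [Group L] (a b c : L) (ha : a ^ 2 = 1) (hb : b ^ 2 = 1) (hc : c ^ 2 = 1)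
    (hab : a * b * a⁻¹ * b⁻¹ = 1) (hac : a * c * a⁻¹ * c⁻¹ = 1) (hbc : b * c * b⁻¹ * c⁻¹ = 1)
    (e : ℕ) (he : Odd e) (h : (a * b * c) ^ e = 1) : a * b * c = 1 := by
  have cab : a * b = b * a := by
    have := hab
    rw [mul_inv_eq_one, mul_inv_eq_iff_eq_mul] at this
    exact this
  have cac : a * c = c * a := by
    have := hac
    rw [mul_inv_eq_one, mul_inv_eq_iff_eq_mul] at this
    exact this
  have cbc : b * c = c * b := by
    have := hbc
    rw [mul_inv_eq_one, mul_inv_eq_iff_eq_mul] at this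
    exact this
  have ha' : a * a = 1 := by rw [← pow_two]; exact ha
  have hb' : b * b = 1 := by rw [← pow_two]; exact hb
  have hc' : c * c = 1 := by rw [← pow_two]; exact hc
  have hsq : (a * b * c) * (a * b * c) = 1 := by
    calc (a * b * c) * (a * b * c) = a * b * (c * a) * b * c := by group
      _ = a * b * (a * c) * b * c := by rw [cac]
      _ = a * (b * a) * c * b * c := by group
      _ = a * (a * b) * c * b * c := by rw [cab]
      _ = (a * a) * b * (c * b) * c := by group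
      _ = (a * a) * b * (b * c) * c := by rw [cbc]
      _ = (a * a) * (b * b) * (c * c) := by group
      _ = 1 := by rw [ha', hb', hc']; simp
  obtain ⟨m, rfl⟩ := he
  rw [pow_succ, pow_mul, pow_two, hsq, one_pow, one_mul] at h
  exact h

/-- the chain of coset enumerations bounds the order of any group satisfying the relators -/
theorem boundA (L : Type u) [Group L] [Finite L] (t : ℕ → L) (ht : ∀ i, t i ^ 2 = 1)
    (hs : ∀ r ∈ srelsA, ev t r.word = 1) (e : ℕ) (he : Odd e) (hx : ev t xrelA ^ e = 1) :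
    Nat.card (Subgroup.closure {y | ∃ i < 6, y = t i}) ≤ 17971200 := by
  have hsX : ∀ r ∈ srelsX, ev t r.word = 1 := fun r hr => hs r (by
    unfold srelsA; simp only [List.mem_append]; tauto)
  have hs2 : ∀ r ∈ A2.srels, ev t r.word = 1 := fun r hr => hs r (by
    unfold srelsA; simp only [List.mem_append]; tauto)
  have hs4 : ∀ r ∈ A4.srels, ev t r.word = 1 := fun r hr => hs r (by
    unfold srelsA; simp only [List.mem_append]; tauto)
  have hs5 : ∀ r ∈ A5.srels, ev t r.word = 1 := fun r hr => hs r (by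
    unfold srelsA; simp only [List.mem_append]; tauto)
  have hs6 : ∀ r ∈ A6.srels, ev t r.word = 1 := fun r hr => hs r (by
    unfold srelsA; simp only [List.mem_append]; tauto)
  -- the odd relator
  have hx1 : ev t xrelA = 1 := by
    have l0 : lv t 0 = t 0 := lv_two_mul t 0
    have l2 : lv t 2 = t 1 := lv_two_mul t 1
    have l4 : lv t 4 = t 2 := lv_two_mul t 2
    have e1 : ev t xrelA = t 0 * t 1 * t 2 := by
      unfold xrelA
      rw [ev_cons, ev_cons, ev_cons, ev_nil, mul_one, l0, l2, l4, mul_assoc]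
    have e0 : ev t [0] = t 0 := by rw [ev_cons, ev_nil, mul_one, l0]
    have e2 : ev t [2] = t 1 := by rw [ev_cons, ev_nil, mul_one, l2]
    have r1 := hsX ⟨[0], 1, 1, 1, false⟩ (by unfold srelsX; simp)
    have r2 := hsX ⟨[0], 2, 2, 1, false⟩ (by unfold srelsX; simp)
    have r3 := hsX ⟨[2], 2, 2, 1, false⟩ (by unfold srelsX; simp)
    have q1 : ev t [0] * t 1 * (ev t [0])⁻¹ = t 1 ^ ((1 : ℕ) : ℤ) :=
      (ev_srel_eq_one_iff t ⟨[0], 1, 1, 1, false⟩).1 r1
    have q2 : ev t [0] * t 2 * (ev t [0])⁻¹ = t 2 ^ ((1 : ℕ) : ℤ) :=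
      (ev_srel_eq_one_iff t ⟨[0], 2, 2, 1, false⟩).1 r2
    have q3 : ev t [2] * t 2 * (ev t [2])⁻¹ = t 2 ^ ((1 : ℕ) : ℤ) :=
      (ev_srel_eq_one_iff t ⟨[2], 2, 2, 1, false⟩).1 r3
    rw [e0, Nat.cast_one, zpow_one] at q1 q2
    rw [e2, Nat.cast_one, zpow_one] at q3
    rw [e1] at hx ⊢
    refine tits_line (t 0) (t 1) (t 2) (ht 0) (ht 1) (ht 2) ?_ ?_ ?_ e he hx
    · rw [q1, mul_inv_cancel]
    · rw [q2, mul_inv_cancel]
    · rw [q3, mul_inv_cancel]
  have hxr : ∀ r ∈ [xrelA], ev t r = 1 := by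
    intro r hr
    rw [List.mem_singleton] at hr
    rw [hr]
    exact hx1
  have hr1 : ∀ r ∈ A1.cert.rels, ev t r = 1 := by
    show ∀ r ∈ A1.rels, ev t r = 1
    rw [A1.rels_eq]
    exact rels_valid t _ _ (fun q hq => by rw [tits_pwA1 q hq]; exact ht _)
      (fun _ hr => (A1.mem_srels hr).elim)
  have hr2 : ∀ r ∈ A2.cert.rels, ev t r = 1 := by
    show ∀ r ∈ A2.rels, ev t r = 1
    rw [A2.rels_eq]
    exact rels_valid t _ _ (fun q hq => by rw [tits_pwA2 q hq]; exact ht _) hs2
  have hr3 : ∀ r ∈ A3.cert.rels, ev t r = 1 := by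
    show ∀ r ∈ A3.rels, ev t r = 1
    rw [A3.rels_eq, tits_arels3]
    intro r hr
    rw [List.mem_append] at hr
    rcases hr with hr | hr
    · exact rels_valid t _ _ (fun q hq => by rw [tits_pwA3 q hq]; exact ht _)
        (fun _ hr => (A3.mem_srels hr).elim) r hr
    · exact hxr r hr
  have hr4 : ∀ r ∈ A4.cert.rels, ev t r = 1 := by
    show ∀ r ∈ A4.rels, ev t r = 1
    rw [A4.rels_eq, tits_arels4]
    intro r hr
    rw [List.mem_append] at hr
    rcases hr with hr | hr
    · exact rels_valid t _ _ (fun q hq => by rw [tits_pwA4 q hq]; exact ht _) hs4 r hr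
    · exact hxr r hr
  have hr5 : ∀ r ∈ A5.cert.rels, ev t r = 1 := by
    show ∀ r ∈ A5.rels, ev t r = 1
    rw [A5.rels_eq, tits_arels5]
    intro r hr
    rw [List.mem_append] at hr
    rcases hr with hr | hr
    · exact rels_valid t _ _ (fun q hq => by rw [tits_pwA5 q hq]; exact ht _) hs5 r hr
    · exact hxr r hr
  have hr6 : ∀ r ∈ A6.cert.rels, ev t r = 1 := by
    show ∀ r ∈ A6.rels, ev t r = 1
    rw [A6.rels_eq, tits_arels6]
    intro r hr
    rw [List.mem_append] at hr
    rcases hr with hr | hr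
    · exact rels_valid t _ _ (fun q hq => by rw [tits_pwA6 q hq]; exact ht _) hs6 r hr
    · exact hxr r hr
  have c1 := cert_step t A1.cert A1.cert_ok hr1 1 (tits_closure_empty t)
  have c2 := cert_step t A2.cert A2.cert_ok hr2 _ c1
  have c3 := cert_step t A3.cert A3.cert_ok hr3 _ c2
  have c4 := cert_step t A4.cert A4.cert_ok hr4 _ c3
  have c5 := cert_step t A5.cert A5.cert_ok hr5 _ c4
  have c6 := cert_step t A6.cert A6.cert_ok hr6 _ c5
  exact c6

end Cfsg.Agent.Lib.Helper92.Tits
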