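import Cfsg.Agent.Lib.Helper89.SafePres

set_option autoImplicit false
set_option maxRecDepth 1000000
set_option maxHeartbeats 0
set_option Elab.async false

namespace Cfsg.Agent.Lib.Helper92.Tits.A1

open Cfsg.Agent.Lib.Helper89.CosetCert Cfsg.Agent.Lib.Helper89.SafePres

def factB_0 : ℕ := 0x1000100000000010001010000000100000000000000010001000000

def factB : ℕ := [factB_0].foldr (fun p acc => Nat.add p (Nat.shiftLeft acc 65536)) 0

def finB_0 : ℕ := 0x10001

def finB : ℕ := [finB_0].foldr (fun p acc => Nat.add p (Nat.shiftLeft acc 65536)) 0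

def pw : List (ℕ × ℕ) := [(2, 0)]

def srels : List SRel := [].flatten

def rels : List Word := [
  [0, 0]]

def steps0 : List ℕ := [
  54043264785842179,
  72057663295324160,
  108086529033764865,
  144115394772205568,
  180143985632739329]

def steps : List ℕ := [steps0].flatten

def roots : List ℕ := [0, 1]

def cert : Cert := ⟨1, 0, 2, factBig factB, rels, steps, 2, roots, numBig finB⟩

end Cfsg.Agent.Lib.Helper92.Tits.A1
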